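import Cfsg.Agent.CpAutSuz.Gen
import Cfsg.Agent.Lib.PermNetFast
import Cfsg.Agent.FastGrp
import Cfsg.Agent.Prune
set_option linter.all false
prune_inst 0x7f00000000000000000000000000000000000000000000000000000000000000000000000000000000000000000000000000000000000000000000000000000000000000000000000000000000000000003fffffffffffffffffffffffffffbeffbdffffffff
open scoped Cfsg.Agent.FastGrp

/-!
# Conjugacy classes of `Suz` from fixed points on 1782 points (helper299)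

`exists_fam` : 28 elements of order prime to 77, pairwise not conjugate.
-/

set_option autoImplicit false
set_option maxRecDepth 100000
set_option exponentiation.threshold 4000

namespace Cfsg.Agent.H299.Two.SuzFam

open Subgroup Cfsg
open Cfsg.Spor (Suz)
open Cfsg.Agent.Lib.PermNet Cfsg.Agent.Lib.PermNetOrbit Cfsg.Agent.SporadicRecognition.SuzPhi
  Cfsg.Agent.SporadicRecognition.SuzBound Cfsg.Agent.SporadicRecognition.SuzOrder
  Cfsg.Agent.SuzThree.Nets Cfsg.Agent.SuzThree.Basic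
open Cfsg.Agent.CpAutSuz.Fix Cfsg.Agent.CpAutSuz.Gen
open Cfsg.Agent.SporRec.SuzCl (Fx)

/-- conjugate elements have the same number of fixed points -/
theorem card_Fx_conj {g h : Suz} (hc : IsConj g h) : (Fx g).card = (Fx h).card := by
  obtain ⟨c, rfl⟩ := isConj_iff.1 hc
  have key : Fx (c * g * c⁻¹) = (Fx g).image (fun p => φ c p) := by
    ext p
    rw [Finset.mem_image, mem_Fx]
    constructor
    · rintro ⟨h1, h2⟩
      refine ⟨φ c⁻¹ p, mem_Fx.2 ⟨φ_lt p h1, ?_⟩, ?_⟩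
      · have h3 : φ g (φ c⁻¹ p) = φ c⁻¹ (φ (c * g * c⁻¹) p) := by
          rw [← φ_mul_apply, ← φ_mul_apply]
          congr 2
          group
        rw [h3, h2]
      · rw [← φ_mul_apply, mul_inv_cancel, map_one]
        rfl
    · rintro ⟨q, hq, rfl⟩
      obtain ⟨h1, h2⟩ := mem_Fx.1 hq
      refine ⟨φ_lt q h1, ?_⟩
      have h3 : φ (c * g * c⁻¹) (φ c q) = φ c (φ g q) := by
        rw [← φ_mul_apply, ← φ_mul_apply]
        congr 2
        group
      rw [h3, h2]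
  rw [key, Finset.card_image_of_injective _ (φ c).injective]

/-- words, exponents, numbers of fixed points of the square and the cube -/
def fam : List (List Suz.Gen × ℕ × ℕ × ℕ) := [
  ([.d, .a, .d, .a], 1, 1782, 1782),
  ([.a, .f, .c, .e], 2, 1782, 42),
  ([.e, .g, .a, .e], 2, 1782, 54),
  ([.b, .g, .d, .e], 3, 18, 1782),
  ([.g, .e, .d, .g], 3, 162, 1782),
  ([.g, .c, .e, .b, .c, .a, .d, .a, .f, .g, .a, .c, .b, .c, .b, .d, .e, .b, .f], 3, 0, 1782),
  ([.e, .c, .f, .g], 4, 54, 2),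
  ([.b, .g, .c, .e], 4, 54, 6),
  ([.c, .f, .a, .g], 4, 54, 30),
  ([.c, .d, .f, .c, .b, .a, .d, .g, .b, .a, .e, .b], 4, 42, 0),
  ([.g, .b, .f, .b], 5, 2, 2),
  ([.c, .a, .f, .d, .f, .b, .g, .e, .c, .g, .c, .f, .c, .d, .f, .a, .b, .e], 5, 12, 12),
  ([.c, .e, .c, .g, .b], 6, 18, 42),
  ([.a, .d, .e, .g], 6, 162, 54),
  ([.b, .d, .f, .c, .g, .d, .c], 6, 0, 54),
  ([.g, .b, .g, .d, .g, .f, .e, .d, .e, .c, .b, .d, .a, .c, .d, .a], 8, 6, 2),
  ([.a, .g, .c, .d], 8, 30, 6),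
  ([.b, .g, .f, .d, .b, .c], 8, 2, 0),
  ([.e, .a, .b, .d, .c], 10, 12, 4),
  ([.g, .b, .f, .g, .d, .c, .b, .a], 12, 18, 2),
  ([.g, .f, .d, .e], 12, 18, 30),
  ([.c, .a, .d, .b, .f, .d, .c, .e, .d, .b, .c, .e, .a, .g, .f, .d], 12, 6, 0),
  ([.f, .e, .c, .g, .a, .d, .g, .c, .b, .d, .g], 12, 0, 6),
  ([.d, .c, .b, .d, .f, .b, .g, .a, .e, .d, .c, .e, .a, .b], 12, 0, 30),
  ([.c, .b, .a, .e, .c, .g, .d], 13, 1, 1),
  ([.c, .e, .f, .d, .b], 15, 3, 12),
  ([.a, .e, .a, .f, .g, .c, .b, .c, .d], 20, 4, 0),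
  ([.b, .g, .f, .c, .d], 24, 6, 6)]

noncomputable def chk (t : List Suz.Gen × ℕ × ℕ × ℕ) : Bool :=
  and (checkEq 11 (wpow (wd t.1) t.2.1) []) (and (Nat.beq (pc 11 (fxB (wpow (wd t.1) 2))) t.2.2.1)
    (Nat.beq (pc 11 (fxB (wpow (wd t.1) 3))) t.2.2.2))

set_option Elab.async false in
theorem chk_all : (fam.all fun t => chk t) = true := by (rewrite [show @Cfsg.Agent.H299.Two.SuzFam.chk = delta% @Cfsg.Agent.H299.Two.SuzFam.chk from by delta Cfsg.Agent.H299.Two.SuzFam.chk; rfl, show @Cfsg.Agent.CpAutSuz.Fix.fxB = delta% @Cfsg.Agent.CpAutSuz.Fix.fxB from by delta Cfsg.Agent.CpAutSuz.Fix.fxB; rfl, Cfsg.Agent.Lib.PermNetFast.pcO_fast, Cfsg.Agent.Lib.PermNetFast.moved_fast, Cfsg.Agent.Lib.PermNetFast.checkEq_fast]; decide +kernel)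

theorem chk_spec {t : List Suz.Gen × ℕ × ℕ × ℕ} (h : chk t = true) :
    el t.1 ^ t.2.1 = 1 ∧ (Fx (el t.1 ^ 2)).card = t.2.2.1 ∧ (Fx (el t.1 ^ 3)).card = t.2.2.2 := by
  unfold chk at h
  simp only [Bool.and_eq_true] at h
  have hr := Rep.el t.1
  refine ⟨?_, card_Fx_rep (Rep.pow hr 2) h.2.1, card_Fx_rep (Rep.pow hr 3) h.2.2⟩
  exact eq_of_reps (Rep.pow hr t.2.1) Rep.one h.1

/-- the elements -/
noncomputable def elt (i : Fin 28) : Suz := el (fam.getD i ([], 1, 0, 0)).1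

theorem chk_get (i : Fin 28) : chk (fam.getD i ([], 1, 0, 0)) = true := by
  have h1 : (i : ℕ) < fam.length := i.2
  rw [List.getD_eq_getElem _ _ h1]
  exact List.all_eq_true.1 chk_all _ (List.getElem_mem h1)

theorem pow_elt (i : Fin 28) : elt i ^ (fam.getD i ([], 1, 0, 0)).2.1 = 1 := (chk_spec (chk_get i)).1

theorem coprime_all : ∀ i : Fin 28, Nat.Coprime 77 (fam.getD i ([], 1, 0, 0)).2.1 := by decide +kernel

theorem inj_all : ∀ i j : Fin 28, (fam.getD i ([], 1, 0, 0)).2.2 = (fam.getD j ([], 1, 0, 0)).2.2 → i = j := by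
  decide +kernel

theorem not_dvd_orderOf {p : ℕ} (hp : p.Prime) (h : p ∣ 77) (i : Fin 28) : ¬ p ∣ orderOf (elt i) := by
  intro h1
  have h2 := h1.trans (orderOf_dvd_of_pow_eq_one (pow_elt i))
  have h3 : p ∣ Nat.gcd 77 (fam.getD i ([], 1, 0, 0)).2.1 := Nat.dvd_gcd h h2
  rw [(coprime_all i).gcd_eq_one] at h3
  exact hp.one_lt.ne' (Nat.dvd_one.1 h3)

theorem eq_of_conj (i j : Fin 28) (h : IsConj (elt i) (elt j)) : i = j := by
  apply inj_all
  have h2 := card_Fx_conj (h.pow 2)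
  have h3 := card_Fx_conj (h.pow 3)
  obtain ⟨-, a2, a3⟩ := chk_spec (chk_get i)
  obtain ⟨-, b2, b3⟩ := chk_spec (chk_get j)
  change (Fx (elt i ^ 2)).card = _ at a2
  change (Fx (elt i ^ 3)).card = _ at a3
  change (Fx (elt j ^ 2)).card = _ at b2
  change (Fx (elt j ^ 3)).card = _ at b3
  exact Prod.ext (by rw [← a2, ← b2, h2]) (by rw [← a3, ← b3, h3])

end Cfsg.Agent.H299.Two.SuzFam
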